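import Mathlib
import Cfsg.Agent.Lib.Helper6.A7.Defs
import Cfsg.Agent.Lib.Helper17.Simple
import Cfsg.Agent.Lib.Helper11.SL2PSolv
import Cfsg.Agent.S0201

/-!
# S0984, package (Gb): a Sylow `2`-subgroup of a simple group of order `2520` has two involutions
-/

set_option autoImplicit false

namespace Cfsg.Agent.Lib.Helper87.A7

universe u

open Cfsg.Agent.Lib.Helper6.A7

/-- Package (Gb). -/
theorem lemS2TwoInv : LemS2TwoInv.{u} := by
  intro G _ _ _ hcard S
  classical
  haveI : Fact (Nat.Prime 2) := ⟨Nat.prime_two⟩
  have hnp : ¬ (Nat.card G).Prime := by rw [hcard]; norm_num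
  have hS8 : Nat.card (S : Subgroup G) = 8 := by
    have := Cfsg.Agent.Lib.Helper17.card_sylow_eq_of_card_eq 2 3 315
      (by rw [hcard]; norm_num) (by norm_num) S
    rw [this]; norm_num
  by_contra hcon
  -- at most one involution in `S`
  have h1 : ∀ s t : (S : Subgroup G), orderOf s = 2 → orderOf t = 2 → s = t := by
    intro s t hs ht
    by_contra hne
    apply hcon
    refine ⟨(s : G), s.2, (t : G), t.2, ?_, ?_, ?_⟩
    · rw [Subgroup.orderOf_coe]; exact hs
    · rw [Subgroup.orderOf_coe]; exact ht
    · intro h; exact hne (Subtype.ext h)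
  rcases Cfsg.Agent.Lib.Helper11.cyclic_or_quaternion_of_unique_involution S.isPGroup' h1 with
    hcyc | ⟨n, ⟨e⟩⟩
  · -- cyclic Sylow 2-subgroup
    have h2 : 2 ∣ Nat.card G := by rw [hcard]; norm_num
    have hmin : (Nat.card G).minFac = 2 := (Nat.minFac_eq_two_iff _).mpr h2
    exact Cfsg.Agent.Lib.Helper17.not_normalizer_le_centralizer hnp 2 h2 S
      (IsCyclic.normalizer_le_centralizer hmin hcyc)
  · -- quaternion Sylow 2-subgroup
    have hn : n = 1 := by
      have hc := Nat.card_congr e.toEquiv
      rw [hS8, Nat.card_eq_fintype_card, QuaternionGroup.card] at hc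
      have h2 : 2 ^ n = 2 ^ 1 := by omega
      exact Nat.pow_right_injective (le_refl 2) h2
    subst hn
    have hO : ∀ N : Subgroup G, N.Normal → Odd (Nat.card N) → N = ⊥ := by
      intro N hN hodd
      rcases hN.eq_bot_or_eq_top with h | h
      · exact h
      · exfalso
        rw [h, Subgroup.card_top, hcard] at hodd
        exact absurd hodd (by decide)
    have hZ := Cfsg.Agent.S0201.result S 0 e hO
    have hcen : Subgroup.center G = ⊥ := by
      rcases (inferInstance : (Subgroup.center G).Normal).eq_bot_or_eq_top with h | h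
      · exact h
      · exfalso
        rw [h, Subgroup.card_top, hcard] at hZ
        norm_num at hZ
    rw [hcen, Subgroup.card_bot] at hZ
    norm_num at hZ

end Cfsg.Agent.Lib.Helper87.A7
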